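import Mathlib
import Groth.Agent.AdicC27.Approx
import Groth.Agent.CAlg5.FiniteComplete

/-! A Noetherian ring complete along an ideal with Artinian quotient is semilocal, with complete local rings. -/

set_option autoImplicit false
universe u

namespace Groth.Agent.Semiloc14

open IsLocalRing

variable {C : Type u} [CommRing C] (J : Ideal C) [IsAdicComplete J C] [IsArtinianRing (C ⧸ J)]

include J in
theorem finite_maximalSpectrum_and_idempotent :
    Finite (MaximalSpectrum C) ∧ ∀ M : MaximalSpectrum C, ∃ e : C, IsIdempotentElem e ∧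
      e ∉ M.asIdeal ∧ ∀ N : MaximalSpectrum C, N ≠ M → e ∈ N.asIdeal := by
  have hJ : J ≤ Ideal.jacobson ⊥ := IsAdicComplete.le_jacobson_bot J
  let φ : MaximalSpectrum C → PrimeSpectrum (C ⧸ J) := fun M =>
    ⟨M.asIdeal.map (Ideal.Quotient.mk J), Ideal.map_isPrime_of_surjective Ideal.Quotient.mk_surjective
      (by rw [Ideal.mk_ker]; exact hJ.trans (sInf_le ⟨bot_le, M.isMaximal⟩))⟩
  have hφ : ∀ M : MaximalSpectrum C, (φ M).asIdeal.comap (Ideal.Quotient.mk J) = M.asIdeal := fun M => by
    show (M.asIdeal.map (Ideal.Quotient.mk J)).comap _ = _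
    rw [Ideal.comap_map_quotientMk, sup_eq_right.mpr (hJ.trans (sInf_le ⟨bot_le, M.isMaximal⟩))]
  have hφi : Function.Injective φ := fun M N h => MaximalSpectrum.ext (by rw [← hφ M, h, hφ N])
  refine ⟨Finite.of_injective φ hφi, fun M => ?_⟩
  have : Nontrivial C := ⟨0, 1, fun h => M.isMaximal.ne_top ((Ideal.eq_top_iff_one _).mpr (h ▸ zero_mem _))⟩
  obtain ⟨e, f, hef, hef1, hpe⟩ := PrimeSpectrum.isClopen_iff_mul_add.1
    (isClopen_discrete ({φ M} : Set (PrimeSpectrum (C ⧸ J))))
  have he : IsIdempotentElem e := by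
    show e * e = e
    calc e * e = e * e + e * f := by rw [hef, add_zero]
      _ = e := by rw [← mul_add, hef1, mul_one]
  obtain ⟨a₀, ha₀⟩ := Ideal.Quotient.mk_surjective e
  have hh : HenselianRing C J := inferInstance
  obtain ⟨a, ha, haa⟩ := hh.is_henselian (Polynomial.X ^ 2 - Polynomial.X)
    (Polynomial.monic_X_pow_sub (by rw [Polynomial.degree_X]; norm_num)) a₀
    (by rw [← Ideal.Quotient.eq_zero_iff_mem]; simp [ha₀, pow_two, he.eq])
    (by
      refine IsUnit.of_mul_eq_one (2 * e - 1) ?_
      simp [Polynomial.derivative_sub, ha₀]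
      linear_combination (4 : C ⧸ J) * he.eq)
  have hae : Ideal.Quotient.mk J a = e := by rw [← ha₀]; exact Ideal.Quotient.eq.2 haa
  refine ⟨a, by simpa [IsIdempotentElem, Polynomial.IsRoot, sub_eq_zero, pow_two] using ha, fun h => ?_, fun N hN => ?_⟩
  · have hM : φ M ∈ ({φ M} : Set _) := rfl
    rw [hpe] at hM
    exact hM (by rw [← hae]; exact Ideal.mem_map_of_mem _ h)
  · rw [← hφ N, Ideal.mem_comap, hae]
    by_contra hc
    have hNM : φ N ∈ (PrimeSpectrum.basicOpen e : Set _) := hc
    rw [← hpe] at hNM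
    exact hN (hφi hNM)

include J in
theorem isAdicComplete_localization [IsNoetherianRing C] (M : MaximalSpectrum C) :
    IsAdicComplete (maximalIdeal (Localization.AtPrime M.asIdeal)) (Localization.AtPrime M.asIdeal) := by
  obtain ⟨e, he, heM, heN⟩ := (finite_maximalSpectrum_and_idempotent J).2 M
  let L := Localization.AtPrime M.asIdeal
  have hsurj := CAlg5.localization_surjective he heM heN
  have : Module.Finite C L := Module.Finite.of_surjective (Algebra.linearMap C L) hsurj
  have : IsAdicComplete J L := AdicC27.isAdicComplete_of_finite L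
  set J' := J.map (algebraMap C L)
  have : IsAdicComplete J' L := (IsAdicComplete.map_algebraMap_iff _ _).mpr ‹_›
  have : IsNoetherianRing L := IsLocalization.isNoetherianRing M.asIdeal.primeCompl _ inferInstance
  let q : C ⧸ J →+* L ⧸ J' := Ideal.quotientMap J' (algebraMap C L) Ideal.le_comap_map
  have hq : Function.Surjective q := fun z => by
    obtain ⟨z, rfl⟩ := Ideal.Quotient.mk_surjective z
    obtain ⟨c, rfl⟩ := hsurj z
    exact ⟨Ideal.Quotient.mk J c, rfl⟩
  have : IsArtinianRing (L ⧸ J') := hq.isArtinianRing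
  obtain ⟨n, hn⟩ := IsLocalRing.exists_maximalIdeal_pow_le_of_isArtinianRing_quotient J'
  have : IsAdicComplete (maximalIdeal L ^ (n + 1)) L :=
    CAlg1.isAdicComplete_of_le ((Ideal.pow_le_pow_right n.le_succ).trans hn) (IsNoetherian.noetherian _)
  exact Frg27.isAdicComplete_of_pow (N := n)

end Groth.Agent.Semiloc14
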