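import Mathlib
import Groth.Agent.Semiloc14.Complete
import Groth.Agent.CAlg1.Complete
import Groth.Agent.CAlg7.FlatLimit

/-!
The completed tensor product of a complete Noetherian local `k`-algebra with a field extension of `k`.
-/

set_option autoImplicit false
universe u

open TensorProduct IsLocalRing

namespace Groth.Agent.Semiloc14

variable (k A k' : Type u) [Field k] [CommRing A] [Algebra k A] [Field k'] [Algebra k k']

/-- The projection from the completion onto `(A/a^n) ⊗ k'`. -/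
theorem exists_level (a : Ideal A) (ha : a.FG) (n : ℕ) :
    ∃ Φ : AdicCompletion (a.map (algebraMap A (A ⊗[k] k'))) (A ⊗[k] k') →ₐ[A] (A ⧸ a ^ n) ⊗[k] k',
      Function.Surjective Φ ∧
      RingHom.ker Φ =
        (a.map (algebraMap A (AdicCompletion (a.map (algebraMap A (A ⊗[k] k'))) (A ⊗[k] k')))) ^ n ∧
      ∀ x : k', Φ (algebraMap (A ⊗[k] k') _ (1 ⊗ₜ x)) = 1 ⊗ₜ x := by
  let T := A ⊗[k] k'
  let I : Ideal T := a.map (algebraMap A T)
  let C := AdicCompletion I T
  let Q := A ⧸ a ^ n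
  have hIfg : I.FG := ha.map _
  let ψ : T →ₐ[A] Q ⊗[k] k' := Algebra.TensorProduct.map (Ideal.Quotient.mkₐ A (a ^ n)) (AlgHom.id k k')
  have hψ : Function.Surjective ψ :=
    LinearMap.rTensor_surjective k' (g := (Ideal.Quotient.mkₐ k (a ^ n)).toLinearMap) Ideal.Quotient.mk_surjective
  have hker : RingHom.ker ψ = I ^ n := by
    rw [← Ideal.map_pow]
    have h : RingHom.ker (Algebra.TensorProduct.map (Ideal.Quotient.mkₐ k (a ^ n)) (AlgHom.id k k')) =
        (RingHom.ker (Ideal.Quotient.mkₐ k (a ^ n))).map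
          (Algebra.TensorProduct.includeLeft : A →ₐ[k] A ⊗[k] k') :=
      Algebra.TensorProduct.rTensor_ker _ Ideal.Quotient.mk_surjective
    rw [show RingHom.ker (Ideal.Quotient.mkₐ k (a ^ n)) = a ^ n from Ideal.mk_ker] at h
    exact h
  let ψ' : T ⧸ I ^ n →ₐ[A] Q ⊗[k] k' := Ideal.Quotient.liftₐ (I ^ n) ψ fun x hx => by
    rw [← hker] at hx; exact hx
  let Φ : C →ₐ[A] Q ⊗[k] k' := ψ'.comp ((AdicCompletion.evalₐ I n).restrictScalars A)
  have hψ' : Function.Surjective ψ' := fun z => by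
    obtain ⟨x, rfl⟩ := hψ z
    exact ⟨Ideal.Quotient.mk _ x, rfl⟩
  refine ⟨Φ, hψ'.comp (AdicCompletion.surjective_evalₐ I n), ?_, fun x => ?_⟩
  · have hinj : Function.Injective ψ' := by
      rw [injective_iff_map_eq_zero]
      intro x hx
      obtain ⟨x, rfl⟩ := Ideal.Quotient.mk_surjective x
      rw [Ideal.Quotient.eq_zero_iff_mem, ← hker]
      exact hx
    ext x
    have h1 : Φ x = 0 ↔ x.val n = 0 := by
      show ψ' (AdicCompletion.evalₐ I n x) = 0 ↔ _
      rw [map_eq_zero_iff _ hinj, ← AdicCompletion.factor_eval_eq_evalₐ I x (le_of_eq (Ideal.mul_top _))]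
      constructor
      · intro h
        obtain ⟨y, hy⟩ := Submodule.mkQ_surjective _ (x.val n)
        rw [AdicCompletion.eval_apply, ← hy] at h
        rw [← hy]
        refine (Submodule.Quotient.mk_eq_zero _).2 ?_
        exact (Ideal.mul_top (I ^ n)).ge ((Submodule.Quotient.mk_eq_zero _).1 h)
      · intro h
        rw [AdicCompletion.eval_apply, h, map_zero]
    rw [RingHom.mem_ker]
    refine h1.trans ?_
    have h2 := AdicCompletion.pow_smul_top_eq_ker_eval (M := T) (n := n) hIfg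
    rw [Ideal.smul_top_eq_map, Ideal.map_pow] at h2
    refine (SetLike.ext_iff.1 h2 x).symm.trans ?_
    rw [Submodule.restrictScalars_mem, Ideal.map_map, ← IsScalarTower.algebraMap_eq]
  · show ψ' (AdicCompletion.evalₐ I n (algebraMap T C (1 ⊗ₜ x))) = _
    rw [AlgHom.commutes, Ideal.Quotient.algebraMap_eq]
    rfl

variable {k A k'}
variable [IsNoetherianRing A] [IsLocalRing A] [Module.Finite k (ResidueField A)]

set_option quotPrecheck false in
local notation "𝔅" => AdicCompletion ((maximalIdeal A).map (algebraMap A (A ⊗[k] k'))) (A ⊗[k] k')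

theorem main :
    IsNoetherianRing 𝔅 ∧ Finite (MaximalSpectrum 𝔅) ∧
      IsAdicComplete ((maximalIdeal A).map (algebraMap A 𝔅)) 𝔅 ∧
      ∀ M : MaximalSpectrum 𝔅,
        IsAdicComplete (maximalIdeal (Localization.AtPrime M.asIdeal)) (Localization.AtPrime M.asIdeal) ∧
          Module.FaithfullyFlat A (Localization.AtPrime M.asIdeal) ∧
          ringKrullDim (Localization.AtPrime M.asIdeal) = ringKrullDim A ∧
          (((Ideal.Quotient.mk M.asIdeal).comp (algebraMap (A ⊗[k] k') 𝔅)).comp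
              Algebra.TensorProduct.includeRight.toRingHom).Finite := by
  let m := maximalIdeal A
  let T := A ⊗[k] k'
  let I : Ideal T := m.map (algebraMap A T)
  let J : Ideal 𝔅 := m.map (algebraMap A 𝔅)
  have hm : m.FG := IsNoetherian.noetherian m
  obtain ⟨Φ, hΦ, hΦk, hΦx⟩ := exists_level k A k' m hm 1
  replace hΦk := hΦk.trans (pow_one _)
  -- the closed fibre
  have : Module.Finite k (A ⧸ m ^ 1) := by rw [pow_one]; exact ‹Module.Finite k (ResidueField A)›
  have hfinF : Module.Finite k' (k' ⊗[k] (A ⧸ m ^ 1)) := inferInstance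
  let γ : 𝔅 →+* k' ⊗[k] (A ⧸ m ^ 1) :=
    (Algebra.TensorProduct.comm k (A ⧸ m ^ 1) k').toAlgHom.toRingHom.comp Φ.toRingHom
  have hγ : Function.Surjective γ := (Algebra.TensorProduct.comm k (A ⧸ m ^ 1) k').surjective.comp hΦ
  have hγk : RingHom.ker γ = J := by
    ext x
    rw [RingHom.mem_ker]
    refine (map_eq_zero_iff _ (Algebra.TensorProduct.comm k (A ⧸ m ^ 1) k').injective).trans ?_
    exact SetLike.ext_iff.1 hΦk x
  have : IsArtinianRing (k' ⊗[k] (A ⧸ m ^ 1)) := IsArtinianRing.of_finite k' _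
  have hart : IsArtinianRing (𝔅 ⧸ J) := by
    rw [← hγk]
    exact (RingHom.quotientKerEquivOfSurjective hγ).symm.surjective.isArtinianRing
  have hIJ : J = I.map (algebraMap T 𝔅) := by
    rw [Ideal.map_map, ← IsScalarTower.algebraMap_eq]
  -- Noetherian
  have hIfg : I.FG := hm.map _
  have hNT : IsNoetherianRing (T ⧸ I) := by
    let ψ : T →+* (A ⧸ m ^ 1) ⊗[k] k' := Φ.toRingHom.comp (algebraMap T 𝔅)
    have hle : RingHom.ker ψ ≤ I := fun x hx => by
      have h1 : algebraMap T 𝔅 x ∈ I.map (algebraMap T 𝔅) := by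
        rw [← hIJ]; exact (SetLike.ext_iff.1 hΦk _).1 hx
      have h2 := AdicCompletion.pow_smul_top_eq_ker_eval (M := T) (n := 1) hIfg
      have h3 : algebraMap T 𝔅 x ∈ ((I ^ 1) • ⊤ : Submodule T 𝔅) := by
        rw [Ideal.smul_top_eq_map, Submodule.restrictScalars_mem, pow_one]; exact h1
      rw [h2, LinearMap.mem_ker] at h3
      have h5 : x ∈ (I ^ 1 • ⊤ : Submodule T T) := (Submodule.Quotient.mk_eq_zero _).1 h3
      simpa [pow_one] using h5
    have hψ : Function.Surjective ψ := by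
      intro z
      induction z using TensorProduct.induction_on with
      | zero => exact ⟨0, map_zero _⟩
      | add a b ha hb =>
        obtain ⟨a', rfl⟩ := ha
        obtain ⟨b', rfl⟩ := hb
        exact ⟨a' + b', map_add _ _ _⟩
      | tmul q x =>
        obtain ⟨a, rfl⟩ := Ideal.Quotient.mk_surjective q
        refine ⟨algebraMap A T a * 1 ⊗ₜ x, ?_⟩
        show Φ (algebraMap T 𝔅 (algebraMap A T a * 1 ⊗ₜ x)) = _
        rw [map_mul (algebraMap T 𝔅), map_mul Φ, hΦx, ← IsScalarTower.algebraMap_apply, AlgHom.commutes]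
        show (Ideal.Quotient.mk (m ^ 1) a ⊗ₜ[k] (1 : k')) * _ = _
        rw [Algebra.TensorProduct.tmul_mul_tmul, mul_one, one_mul]
    have : IsNoetherianRing ((A ⧸ m ^ 1) ⊗[k] k') :=
      isNoetherianRing_of_surjective (k' ⊗[k] (A ⧸ m ^ 1)) _
        (Algebra.TensorProduct.comm k k' (A ⧸ m ^ 1)).toAlgHom.toRingHom
        (Algebra.TensorProduct.comm k k' (A ⧸ m ^ 1)).surjective
    have : IsNoetherianRing (T ⧸ RingHom.ker ψ) :=
      isNoetherianRing_of_ringEquiv _ (RingHom.quotientKerEquivOfSurjective hψ).symm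
    exact isNoetherianRing_of_surjective (T ⧸ RingHom.ker ψ) _ (Ideal.Quotient.factor hle)
      (Ideal.Quotient.factor_surjective hle)
  have hN : IsNoetherianRing 𝔅 := CAlg1.isNoetherianRing_adicCompletion I hIfg
  have hc : IsAdicComplete J 𝔅 := by
    rw [hIJ]; exact AdicCompletion.isAdicComplete_self I hIfg
  have hJ : J ≤ Ideal.jacobson ⊥ := IsAdicComplete.le_jacobson_bot J
  -- flatness
  have hflat : Module.Flat A 𝔅 := by
    refine CAlg7.flat_of_forall_flat_mod_pow (S := 𝔅) m hJ fun n _ => ?_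
    obtain ⟨Φn, hn, hnk, -⟩ := exists_level k A k' m hm n
    have hk : LinearMap.ker Φn.toLinearMap = (m ^ n • ⊤ : Submodule A 𝔅) := by
      rw [Ideal.smul_top_eq_map, Ideal.map_pow, ← hnk]
      rfl
    let e : (𝔅 ⧸ (m ^ n • ⊤ : Submodule A 𝔅)) ≃ₗ[A] (A ⧸ m ^ n) ⊗[k] k' :=
      (Submodule.quotEquivOfEq _ _ hk.symm).trans (Φn.toLinearMap.quotKerEquivOfSurjective hn)
    exact Module.Flat.of_linearEquiv (e.extendScalarsOfSurjective Ideal.Quotient.mk_surjective)
  refine ⟨hN, (finite_maximalSpectrum_and_idempotent J).1, hc, fun M => ?_⟩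
  let L := Localization.AtPrime M.asIdeal
  have := M.isMaximal
  have hJM : J ≤ M.asIdeal := hJ.trans (sInf_le ⟨bot_le, M.isMaximal⟩)
  have hlies : M.asIdeal.LiesOver m := ⟨by
    refine (IsLocalRing.maximalIdeal.isMaximal A).eq_of_le ?_ (Ideal.le_comap_map.trans (Ideal.comap_mono hJM))
    exact (Ideal.comap_ne_top _ M.isMaximal.ne_top)⟩
  refine ⟨isAdicComplete_localization J M, ?_, ?_, ?_⟩
  · have : Module.Flat A L := Module.Flat.trans A 𝔅 L
    have : IsLocalHom (algebraMap A L) := by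
      constructor
      intro x hx
      by_contra h
      have h1 : algebraMap A 𝔅 x ∈ M.asIdeal := hJM (Ideal.mem_map_of_mem _ h)
      rw [IsScalarTower.algebraMap_apply A 𝔅 L, IsLocalization.AtPrime.isUnit_to_map_iff L M.asIdeal] at hx
      exact hx h1
    exact Module.FaithfullyFlat.of_flat_of_isLocalHom
  · have := hlies
    rw [IsLocalization.AtPrime.ringKrullDim_eq_height M.asIdeal L, ← IsLocalRing.maximalIdeal_height_eq_ringKrullDim,
      Ideal.height_eq_height_add_of_liesOver_of_hasGoingDown m M.asIdeal]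
    have hP : (M.asIdeal.map (Ideal.Quotient.mk J)).IsPrime :=
      Ideal.map_isPrime_of_surjective Ideal.Quotient.mk_surjective (by rw [Ideal.mk_ker]; exact hJM)
    have h0 : (M.asIdeal.map (Ideal.Quotient.mk J)).height = 0 := by
      rw [Ideal.height_eq_zero_iff]
      exact ⟨⟨hP, bot_le⟩, fun q hq hle => ((haveI := hq.1; IsArtinianRing.isMaximal_of_isPrime q).eq_of_le hP.ne_top hle).ge⟩
    rw [h0, add_zero]
  · let g : k' ⊗[k] (A ⧸ m ^ 1) →+* 𝔅 ⧸ M.asIdeal := γ.liftOfSurjective hγ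
      ⟨Ideal.Quotient.mk M.asIdeal, by rw [hγk, Ideal.mk_ker]; exact hJM⟩
    have hg : ∀ x, g (γ x) = Ideal.Quotient.mk M.asIdeal x := fun x => γ.liftOfSurjective_comp_apply hγ _ x
    have hgs : Function.Surjective g := fun z => by
      obtain ⟨x, rfl⟩ := Ideal.Quotient.mk_surjective z
      exact ⟨γ x, hg x⟩
    have hcomp : ((Ideal.Quotient.mk M.asIdeal).comp (algebraMap (A ⊗[k] k') 𝔅)).comp
          Algebra.TensorProduct.includeRight.toRingHom =
        g.comp (algebraMap k' (k' ⊗[k] (A ⧸ m ^ 1))) := by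
      refine RingHom.ext fun x => ?_
      show Ideal.Quotient.mk M.asIdeal (algebraMap T 𝔅 (1 ⊗ₜ x)) = g (x ⊗ₜ (1 : A ⧸ m ^ 1))
      rw [← hg]
      congr 1
      show Algebra.TensorProduct.comm k (A ⧸ m ^ 1) k' (Φ (algebraMap T 𝔅 (1 ⊗ₜ x))) = _
      rw [hΦx, Algebra.TensorProduct.comm_tmul]
    rw [hcomp]
    exact RingHom.Finite.comp (RingHom.Finite.of_surjective g hgs) (RingHom.finite_algebraMap.2 hfinF)

end Groth.Agent.Semiloc14
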